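import Mathlib
import Groth.Agent.Lib.Helper7.ConstrNoeth

/-!
# A topological criterion for constructibility in a Noetherian space
-/

set_option autoImplicit false
universe u

open Topology Set TopologicalSpace

namespace Groth.Agent.Lib.Helper14.ConsFibre

/-- if near the generic point `ξ` of `Z` the set `Z` lies in the image of an inducing map `j`
along which `E` pulls back to an open set, then a nonempty open of `Z` lies in `E` or in `Eᶜ`. -/
theorem exists_open_subset_or_compl {X Y : Type*} [TopologicalSpace X] [TopologicalSpace Y]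
    (E Z : Set X) (ξ : X) (hξZ : ξ ∈ Z) (hZ : ∀ z ∈ Z, ξ ⤳ z) (j : Y → X) (hj : IsInducing j)
    (U₁ : Set X) (hU₁ : IsOpen U₁) (hξ : ξ ∈ U₁) (hr : U₁ ∩ Z ⊆ Set.range j)
    (hE : IsOpen (j ⁻¹' E)) :
    ∃ U : Set X, IsOpen U ∧ ξ ∈ U ∧ (U ∩ Z ⊆ E ∨ U ∩ Z ⊆ Eᶜ) := by
  obtain ⟨W, hW, hWE⟩ := hj.isOpen_iff.1 hE
  obtain ⟨ξ', hξ'⟩ := hr ⟨hξ, hξZ⟩
  by_cases hξE : ξ ∈ E
  · refine ⟨W ∩ U₁, hW.inter hU₁, ⟨?_, hξ⟩, Or.inl ?_⟩
    · have : ξ' ∈ j ⁻¹' E := by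
        rw [mem_preimage, hξ']
        exact hξE
      rw [← hWE, mem_preimage, hξ'] at this
      exact this
    · rintro z ⟨⟨hzW, hzU⟩, hzZ⟩
      obtain ⟨z', rfl⟩ := hr ⟨hzU, hzZ⟩
      have : z' ∈ j ⁻¹' W := hzW
      rw [hWE] at this
      exact this
  · refine ⟨U₁, hU₁, hξ, Or.inr ?_⟩
    rintro z ⟨hzU, hzZ⟩ hzE
    obtain ⟨z', rfl⟩ := hr ⟨hzU, hzZ⟩
    have h1 : z' ∈ j ⁻¹' W := by
      rw [hWE]
      exact hzE
    have h2 : ξ ∈ W := (hZ _ hzZ).mem_open hW h1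
    have h3 : ξ' ∈ j ⁻¹' W := by
      rw [mem_preimage, hξ']
      exact h2
    rw [hWE, mem_preimage, hξ'] at h3
    exact hξE h3

/-- constructibility criterion in a Noetherian sober space. -/
theorem isConstructible_of_forall_generic {X : Type*} [TopologicalSpace X] [NoetherianSpace X]
    [QuasiSober X] (E : Set X)
    (h : ∀ ξ : X, ∃ U : Set X, IsOpen U ∧ ξ ∈ U ∧
      (U ∩ closure {ξ} ⊆ E ∨ U ∩ closure {ξ} ⊆ Eᶜ)) : IsConstructible E := by
  rw [Groth.Agent.Lib.Helper7.ConstrNoeth.isConstructible_iff_forall_irreducible_closed]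
  intro Z hZc hZi
  obtain ⟨ξ, hξ⟩ := QuasiSober.sober hZi hZc
  have hZeq : closure {ξ} = Z := hξ.def
  obtain ⟨U, hU, hξU, h1 | h1⟩ := h ξ
  · right
    refine ⟨U, hU, ⟨ξ, hξU, hξ.mem⟩, ?_⟩
    rw [← hZeq]
    exact h1
  · left
    refine Groth.Agent.Lib.Helper7.ConstrNoeth.isNowhereDense_of_inter_subset_compl
      hZi.isPreirreducible hU ⟨ξ, hξU, hξ.mem⟩ ?_
    rw [← hZeq]
    exact h1

end Groth.Agent.Lib.Helper14.ConsFibre
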