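import Mathlib
import Groth.Agent.Lib.Helper14.ConsFibre.Top
import Groth.Agent.Lib.Helper12.ConsPropNoeth
import Groth.Agent.Lib.Helper28.GenFlatScheme

/-!
# Constructibility of pointwise fibre conditions: the Noetherian case
-/

set_option autoImplicit false
set_option linter.style.haveILetI false
universe u

open AlgebraicGeometry CategoryTheory Limits Topology

namespace Groth.Agent.Lib.Helper14.ConsFibre

open Groth.Agent.Lib.Helper12.ClosedSub

/-- a pointwise condition on the fibres of a morphism which is compatible with base change and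
open in the flat case. -/
structure IsFibreCons (E : ∀ ⦃X S : Scheme.{u}⦄, (X ⟶ S) → Set X) : Prop where
  baseChange : ∀ ⦃X S X' S' : Scheme.{u}⦄ (f : X ⟶ S) (f' : X' ⟶ S') (g' : X' ⟶ X) (g : S' ⟶ S),
    IsPullback g' f' f g → LocallyOfFiniteType f → E f' = g' ⁻¹' (E f)
  restrict : ∀ ⦃X S : Scheme.{u}⦄ (f : X ⟶ S) (U : X.Opens), LocallyOfFiniteType f →
    E (U.ι ≫ f) = U.ι ⁻¹' (E f)
  isOpen_of_flat : ∀ ⦃X S : Scheme.{u}⦄ (f : X ⟶ S), Flat f → LocallyOfFinitePresentation f →
    IsOpen (E f)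

variable {E : ∀ ⦃X S : Scheme.{u}⦄, (X ⟶ S) → Set X}

theorem isConstructible_of_isNoetherian (hE : IsFibreCons E) {X S : Scheme.{u}} [IsNoetherian S]
    (f : X ⟶ S) [LocallyOfFiniteType f] [QuasiCompact f] : IsConstructible (E f) := by
  haveI : IsLocallyNoetherian X := LocallyOfFiniteType.isLocallyNoetherian f
  haveI : CompactSpace X := QuasiCompact.compactSpace_of_compactSpace f
  haveI : IsNoetherian X := {}
  apply isConstructible_of_forall_generic
  intro ξ
  set s := f ξ with hs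
  set ι := clSubι S s with hι
  set fT := pullback.snd f ι with hfT
  set p := pullback.fst f ι with hp
  obtain ⟨V, hVd, hVfl, hVfp⟩ := Groth.Agent.Lib.Helper28.GenFlat.generic_flat fT
  have hsq : IsPullback ((fT ⁻¹ᵁ V).ι ≫ p) (fT ∣_ V) f (V.ι ≫ ι) :=
    (isPullback_morphismRestrict fT V).flip.paste_horiz (IsPullback.of_hasPullback f ι)
  have h1 : E (fT ∣_ V) = ((fT ⁻¹ᵁ V).ι ≫ p) ⁻¹' (E f) :=
    hE.baseChange _ _ _ _ hsq inferInstance
  have h2 : IsOpen (E (fT ∣_ V)) := hE.isOpen_of_flat _ hVfl hVfp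
  obtain ⟨V', hV', hV'V⟩ := ι.isEmbedding.isInducing.isOpen_iff.1 V.2
  have hη : genericPoint ↑(clSub S s) ∈ V := by
    have := (genericPoint_spec ↑(clSub S s)).mem_open_set_iff V.2
    exact this.2 (by
      obtain ⟨a, ha⟩ := hVd.nonempty
      exact ⟨a, trivial, ha⟩)
  refine exists_open_subset_or_compl (E f) (closure {ξ}) ξ (subset_closure rfl)
    (fun z hz => specializes_iff_mem_closure.2 hz) ((fT ⁻¹ᵁ V).ι ≫ p)
    ((fT ⁻¹ᵁ V).ι ≫ p).isEmbedding.isInducing (f ⁻¹' V') (hV'.preimage f.continuous) ?_ ?_ ?_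
  · change f ξ ∈ V'
    rw [← hs, ← clSubι_genericPoint S s]
    have : genericPoint ↑(clSub S s) ∈ ι ⁻¹' V' := by
      rw [hV'V]
      exact hη
    exact this
  · rintro z ⟨hzV', hz⟩
    have hfz : f z ∈ Set.range ι := by
      rw [hι, range_clSubι]
      have : f z ∈ closure (f '' {ξ}) :=
        image_closure_subset_closure_image f.continuous ⟨z, hz, rfl⟩
      rwa [Set.image_singleton] at this
    obtain ⟨t, ht⟩ := hfz
    obtain ⟨w, hw1, hw2⟩ := Scheme.Pullback.exists_preimage_pullback z t ht.symm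
    have htV : t ∈ V := by
      have : t ∈ ι ⁻¹' V' := by
        rw [Set.mem_preimage, ht]
        exact hzV'
      rwa [hV'V] at this
    refine ⟨⟨w, ?_⟩, ?_⟩
    · change fT w ∈ V
      rw [hfT, hw2]
      exact htV
    · rw [Scheme.Hom.comp_apply]
      exact hw1
  · rw [← h1]
    exact h2

end Groth.Agent.Lib.Helper14.ConsFibre
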