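import Mathlib
import Groth.Agent.Lib.Helper14.ConsFibre.Noeth
import Groth.Agent.Lib.Helper12.FibreDimFP
import Groth.Agent.Lib.Helper14.LCF.FibreRing

/-!
# Constructibility of pointwise fibre conditions: the general case
-/

set_option autoImplicit false
set_option linter.style.haveILetI false
universe u

open AlgebraicGeometry CategoryTheory Limits Topology

namespace Groth.Agent.Lib.Helper14.ConsFibre

variable {E : ∀ ⦃X S : Scheme.{u}⦄, (X ⟶ S) → Set X}

theorem isConstructible_Spec (hE : IsFibreCons E) {R A : CommRingCat.{u}} (φ : R ⟶ A)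
    (hφ : φ.hom.FinitePresentation) : IsConstructible (E (Spec.map φ)) := by
  obtain ⟨R₀, A₀, φ₀, a, b, hN, hφ₀, hpb⟩ :=
    Groth.Agent.Lib.Helper12.FibreDimFP.exists_noetherian_model φ hφ
  haveI := hN
  haveI : LocallyOfFinitePresentation (Spec.map φ₀) :=
    (HasRingHomProperty.Spec_iff (P := @LocallyOfFinitePresentation)).2 hφ₀
  have h1 : E (Spec.map φ) = (Spec.map b) ⁻¹' (E (Spec.map φ₀)) :=
    hE.baseChange _ _ _ _ hpb inferInstance
  rw [h1]
  exact (Spec.map b).isConstructible_preimage (isConstructible_of_isNoetherian hE (Spec.map φ₀))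

theorem isConstructible_of_isAffine (hE : IsFibreCons E) {X S : Scheme.{u}} [IsAffine X]
    [IsAffine S] (f : X ⟶ S) [LocallyOfFinitePresentation f] : IsConstructible (E f) := by
  have hsq : IsPullback X.toSpecΓ f (Spec.map f.appTop) S.toSpecΓ :=
    IsPullback.of_horiz_isIso ⟨(Scheme.toSpecΓ_naturality f).symm⟩
  have h1 : E f = X.toSpecΓ ⁻¹' (E (Spec.map f.appTop)) := by
    refine hE.baseChange _ _ _ _ hsq ?_
    have : Spec.map f.appTop = inv X.toSpecΓ ≫ f ≫ S.toSpecΓ := by
      rw [Scheme.toSpecΓ_naturality, IsIso.inv_hom_id_assoc]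
    rw [this]
    infer_instance
  rw [h1]
  refine X.toSpecΓ.isConstructible_preimage (isConstructible_Spec hE _ ?_)
  have : LocallyOfFinitePresentation (Spec.map f.appTop) := by
    have : Spec.map f.appTop = inv X.toSpecΓ ≫ f ≫ S.toSpecΓ := by
      rw [Scheme.toSpecΓ_naturality, IsIso.inv_hom_id_assoc]
    rw [this]
    infer_instance
  exact (HasRingHomProperty.Spec_iff (P := @LocallyOfFinitePresentation)).1 this

theorem eq_of_comp_mono (hE : IsFibreCons E) {X V S : Scheme.{u}} (f : X ⟶ V) (j : V ⟶ S) [Mono j]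
    [LocallyOfFiniteType (f ≫ j)] : E f = E (f ≫ j) := by
  have h1 : IsPullback (𝟙 X) f f (𝟙 V) := IsPullback.of_horiz_isIso ⟨by simp⟩
  have h2 : IsPullback (𝟙 V) (𝟙 V) j j := (IsKernelPair.id_of_mono j)
  have h3 := h1.paste_vert h2
  rw [Category.comp_id] at h3
  have := hE.baseChange _ _ _ _ h3 inferInstance
  rw [this]
  rfl

theorem isConstructible_restrict (hE : IsFibreCons E) {X S : Scheme.{u}} (f : X ⟶ S)
    [LocallyOfFinitePresentation f] (V : S.Opens) (hV : IsAffineOpen V) (U : X.Opens)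
    (hU : IsAffineOpen U) (e : U ≤ f ⁻¹ᵁ V) : IsConstructible (U.ι ⁻¹' (E f)) := by
  have hcomp : f.resLE V U e ≫ V.ι = U.ι ≫ f := Scheme.Hom.resLE_comp_ι f e
  haveI : LocallyOfFinitePresentation (f.resLE V U e ≫ V.ι) := by
    rw [hcomp]
    infer_instance
  haveI : LocallyOfFinitePresentation (f.resLE V U e) :=
    Groth.Agent.Lib.Helper14.LCF.locallyOfFinitePresentation_of_comp (f.resLE V U e) V.ι
  haveI : IsAffine (U : Scheme.{u}) := hU
  haveI : IsAffine (V : Scheme.{u}) := hV
  have h1 : E (f.resLE V U e) = U.ι ⁻¹' (E f) := by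
    rw [eq_of_comp_mono hE (f.resLE V U e) V.ι, ← hE.restrict f U inferInstance]
    congr 1
  have h2 := isConstructible_of_isAffine hE (f.resLE V U e)
  rw [h1] at h2
  exact h2

theorem isLocallyConstructible (hE : IsFibreCons E) {X S : Scheme.{u}} (f : X ⟶ S)
    [LocallyOfFinitePresentation f] : IsLocallyConstructible (E f) := by
  intro x
  obtain ⟨_, ⟨V, hV, rfl⟩, hxV, -⟩ :=
    S.isBasis_affineOpens.exists_subset_of_mem_open (Set.mem_univ (f x)) isOpen_univ
  obtain ⟨_, ⟨U, hU, rfl⟩, hxU, hUV⟩ :=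
    X.isBasis_affineOpens.exists_subset_of_mem_open (show x ∈ ((f ⁻¹ᵁ V : X.Opens) : Set X) from hxV)
      (f ⁻¹ᵁ V).2
  refine ⟨U, U.2.mem_nhds hxU, U.2, ?_⟩
  exact isConstructible_restrict hE f V hV U hU hUV

end Groth.Agent.Lib.Helper14.ConsFibre
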