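import Mathlib
import Groth.Agent.Lib.Helper14.ConsFibre.Main
import Groth.Agent.Lib.Helper14.CMOpenness
import Groth.Agent.Lib.Helper14.CMBaseChange

/-!
# Constructibility of the locus where the fibres are Cohen–Macaulay
-/

set_option autoImplicit false
set_option linter.style.haveILetI false
universe u

open AlgebraicGeometry CategoryTheory Limits Topology

namespace Groth.Agent.Lib.Helper14.ConsFibre

/-- the set of points at which the fibre is Cohen–Macaulay. -/
def cmSet ⦃X S : Scheme.{u}⦄ (f : X ⟶ S) : Set X :=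
  {x : X | LocCoh.IsCohenMacaulayLocalRing ((f.fiber (f x)).presheaf.stalk (f.asFiber x))}

/-- the fibre local ring does not change under restriction to an open subscheme. -/
theorem nonempty_stalk_equiv_restrict {X S : Scheme.{u}} (f : X ⟶ S) (U : X.Opens) (u : U) :
    Nonempty (((U.ι ≫ f).fiber ((U.ι ≫ f) u)).presheaf.stalk ((U.ι ≫ f).asFiber u) ≃+*
      (f.fiber (f (U.ι u))).presheaf.stalk (f.asFiber (U.ι u))) := by
  set s := f (U.ι u) with hs
  have hsq := Groth.Agent.Lib.Helper12.ConsPropNoeth.isPullback_fiberMap U.ι f s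
  set φ := MoreMor.fiberMap U.ι f s with hφ
  haveI : IsOpenImmersion φ :=
    MorphismProperty.of_isPullback (P := @IsOpenImmersion) hsq inferInstance
  have hz : φ ((U.ι ≫ f).asFiber u) = f.asFiber (U.ι u) := by
    apply (f.fiberι s).isEmbedding.injective
    have h1 : (U.ι ≫ f).fiberι s ((U.ι ≫ f).asFiber u) = u := (U.ι ≫ f).fiberι_asFiber u
    have h2 : f.fiberι s (f.asFiber (U.ι u)) = U.ι u := f.fiberι_asFiber (U.ι u)
    rw [← Scheme.Hom.comp_apply, ← hsq.w, Scheme.Hom.comp_apply, h1, h2]
  have key : ∀ w : ↑(f.fiber s), φ ((U.ι ≫ f).asFiber u) = w →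
      Nonempty (((U.ι ≫ f).fiber s).presheaf.stalk ((U.ι ≫ f).asFiber u) ≃+*
        (f.fiber s).presheaf.stalk w) := by
    rintro w rfl
    exact ⟨(asIso (φ.stalkMap ((U.ι ≫ f).asFiber u))).commRingCatIsoToRingEquiv.symm⟩
  exact key _ hz

theorem cmSet_isFibreCons : IsFibreCons.{u} cmSet where
  baseChange := by
    intro X S X' S' f f' g' g hc hf
    ext x'
    haveI : LocallyOfFiniteType (f.fiberToSpecResidueField (g (f' x'))) := by
      change LocallyOfFiniteType (pullback.snd f (S.fromSpecResidueField (g (f' x'))))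
      infer_instance
    haveI : IsLocallyNoetherian (f.fiber (g (f' x'))) :=
      LocallyOfFiniteType.isLocallyNoetherian (f.fiberToSpecResidueField (g (f' x')))
    exact (Groth.Agent.Lib.Helper14.CMBaseChange.cm_fibre_iff hc x' (Or.inr hf)).symm
  restrict := by
    intro X S f U hf
    ext u
    obtain ⟨e⟩ := nonempty_stalk_equiv_restrict f U u
    constructor
    · intro h
      haveI : LocCoh.IsCohenMacaulayLocalRing
        (((U.ι ≫ f).fiber ((U.ι ≫ f) u)).presheaf.stalk ((U.ι ≫ f).asFiber u)) := h
      exact Groth.Agent.Lib.Helper22.CMG.isCMLocalRing_of_ringEquiv e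
    · intro h
      haveI : LocCoh.IsCohenMacaulayLocalRing
        ((f.fiber (f (U.ι u))).presheaf.stalk (f.asFiber (U.ι u))) := h
      exact Groth.Agent.Lib.Helper22.CMG.isCMLocalRing_of_ringEquiv e.symm
  isOpen_of_flat := by
    intro X S f hfl hfp
    have : cmSet f = {x | MoreMor.IsCMAt f x} := by
      ext x
      exact ⟨fun h => ⟨Flat.stalkMap f x, h⟩, fun h => h.2⟩
    rw [this]
    exact Groth.Agent.Lib.Helper14.CMOpenness.isOpen_setOf_isCMAt f

theorem isLocallyConstructible_cmSet {X S : Scheme.{u}} (f : X ⟶ S)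
    [LocallyOfFinitePresentation f] : IsLocallyConstructible (cmSet f) :=
  isLocallyConstructible cmSet_isFibreCons f

end Groth.Agent.Lib.Helper14.ConsFibre

namespace Groth.Agent.Lib.Helper14.ConsFibre

open Groth.Agent.Lib.Helper14.CMBaseChange in
/-- the set of points of the base over which the whole fibre is Cohen–Macaulay. -/
theorem isLocallyConstructible_forall_cm {X S : Scheme.{u}} (f : X ⟶ S)
    [LocallyOfFinitePresentation f] [QuasiCompact f] :
    IsLocallyConstructible {s : S |
      ∀ z : ↥(f.fiber s), LocCoh.IsCohenMacaulayLocalRing ((f.fiber s).presheaf.stalk z)} := by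
  have h1 := Groth.Agent.Lib.Helper12.ConstrNhds.isLocallyConstructible_compl
    (f.isLocallyConstructible_image (Groth.Agent.Lib.Helper12.ConstrNhds.isLocallyConstructible_compl
      (isLocallyConstructible_cmSet f)))
  convert h1 using 1
  ext s
  simp only [Set.mem_setOf_eq, Set.mem_compl_iff, Set.mem_image, not_exists, not_and, not_not]
  constructor
  · intro h x hx hfx
    apply hx
    subst hfx
    exact h (f.asFiber x)
  · intro h z
    have hgx : f (f.fiberι s z) = s := by
      have : f.fiberι s z ∈ Set.range (f.fiberι s) := ⟨z, rfl⟩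
      rw [f.range_fiberι] at this
      exact this
    have h2 : f.fiberι s z ∈ cmSet f := by
      by_contra hne
      exact h _ hne hgx
    obtain ⟨e⟩ := nonempty_stalk_equiv_of_fiberι_eq f (f (f.fiberι s z)) s hgx
      (f.asFiber (f.fiberι s z)) z (f.fiberι_asFiber _)
    haveI : LocCoh.IsCohenMacaulayLocalRing
      ((f.fiber (f (f.fiberι s z))).presheaf.stalk (f.asFiber (f.fiberι s z))) := h2
    exact Groth.Agent.Lib.Helper22.CMG.isCMLocalRing_of_ringEquiv e

end Groth.Agent.Lib.Helper14.ConsFibre
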